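import Cfsg.Agent.Lib.Schur.Suz.Data2
import Cfsg.Agent.Lib.Schur.TailsDensePerm
import Cfsg.Agent.Lib.Sporadic.OutCert.Suz.Data

/-!
Kernel checks of the data for the 2-part of the multiplier of the Suzuki group.
-/

set_option autoImplicit false
set_option maxRecDepth 100000
set_option maxHeartbeats 0

namespace CfsgLib.Schur.Sporadic.Suz

open CfsgLib.Sporadic.OutCert

theorem slp2_ok : Tails.slpK 11 1782 3 slpTab2 slpW2 = true ∧
    slpTab2.take 3 = [CfsgLib.Sporadic.OutCert.Suz.ka, CfsgLib.Sporadic.OutCert.Suz.kn, CfsgLib.Sporadic.OutCert.Suz.kb] := by decide +kernel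

theorem pick2_ok : Tails.pickK 11 1782 slpTab2 ids2 kk2 = true ∧
    Tails.pickK 11 1782 slpTab2 gids2 gk2 = true := by decide +kernel

theorem rels2_ok : Tails.relK 11 1782 kk2 cert2 = true := by decide +kernel

theorem fus2_ok : Tails.fusK 11 1782 kk2 gk2 cert2 = true := by decide +kernel

theorem chain2_ok : Tails.chainK 11 1782 kk2 lev2 lvw2 0 cert2.r (2 ^ 13) = true := by decide +kernel

theorem chain2in_ok : Tails.chainK 11 1782 kk2 lev2in lvw2in cert2.a cert2.r (2 ^ 9) = true := by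
  decide +kernel

theorem cert2_eqs : Tails.Dense.eqsOK cert2 dense2 = true := by decide +kernel

theorem cert2_comb : Tails.Dense.combOK cert2 dense2 = true := by decide +kernel

theorem cert2_shape : cert2.shapeOK = true ∧ cert2.p = 2 ∧ cert2.r = 13 ∧ cert2.r - cert2.a = 9 ∧
    dense2.b = 2 ∧ ¬ 2 ^ (13 + 1) ∣ 448345497600 ∧ ¬ 2 ∣ 54729675 ∧ 448345497600 ∣ dense2.q * 54729675 := by decide +kernel

theorem ord_ok : Tails.pickK 11 1782 slpTab2 ordIds ordK = true ∧
    ((List.range 3).all fun i => testK 11 1782 [ordK.getD i 0] ([7, 11, 13].getD i 0) &&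
      !(ordK.getD i 0 == oneK 11 1782) && ordK.getD i 0 == pkF 11 (lk 11 (ordK.getD i 0)) 1782 0) = true ∧
    ordK.length = 3 := by decide +kernel

end CfsgLib.Schur.Sporadic.Suz
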