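import Cfsg.Agent.Lib.Schur.Suz.Data5
import Cfsg.Agent.Lib.Schur.TailsDensePerm
import Cfsg.Agent.Lib.Sporadic.OutCert.Suz.Data

/-!
Kernel checks of the data for the 5-part of the multiplier of the Suzuki group.
-/

set_option autoImplicit false
set_option maxRecDepth 100000
set_option maxHeartbeats 0

namespace CfsgLib.Schur.Sporadic.Suz

open CfsgLib.Sporadic.OutCert

theorem slp5_ok : Tails.slpK 11 1782 3 slpTab5 slpW5 = true ∧
    slpTab5.take 3 = [CfsgLib.Sporadic.OutCert.Suz.ka, CfsgLib.Sporadic.OutCert.Suz.kn, CfsgLib.Sporadic.OutCert.Suz.kb] := by decide +kernel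

theorem pick5_ok : Tails.pickK 11 1782 slpTab5 ids5 kk5 = true ∧
    Tails.pickK 11 1782 slpTab5 gids5 gk5 = true := by decide +kernel

theorem rels5_ok : Tails.relK 11 1782 kk5 cert5 = true := by decide +kernel

theorem fus5_ok : Tails.fusK 11 1782 kk5 gk5 cert5 = true := by decide +kernel

theorem chain5_ok : Tails.chainK 11 1782 kk5 lev5 lvw5 0 cert5.r (5 ^ 2) = true := by decide +kernel

theorem chain5in_ok : Tails.chainK 11 1782 kk5 lev5in lvw5in cert5.a cert5.r (5 ^ 0) = true := by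
  decide +kernel

theorem cert5_eqs : Tails.Dense.eqsOK cert5 dense5 = true := by decide +kernel

theorem cert5_comb : Tails.Dense.combOK cert5 dense5 = true := by decide +kernel

theorem cert5_shape : cert5.shapeOK = true ∧ cert5.p = 5 ∧ cert5.r = 2 ∧ cert5.r - cert5.a = 0 ∧
    dense5.b = 1 ∧ ¬ 5 ^ (2 + 1) ∣ 448345497600 ∧ ¬ 5 ∣ 17933819904 ∧ 448345497600 ∣ dense5.q * 17933819904 := by decide +kernel

end CfsgLib.Schur.Sporadic.Suz
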