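import Cfsg.Agent.Lib.Schur.Suz.CoverData
import Cfsg.Agent.Lib.Schur.Co1.Gens
import Cfsg.Agent.Lib.Schur.Basic
import Cfsg.Agent.Lib.Sporadic.SuzPresented
import Mathlib.GroupTheory.SpecificGroups.Cyclic

/-!
A six-fold cover of the Suzuki group inside the automorphism group of the rank 24 lattice.
-/

set_option autoImplicit false
set_option maxRecDepth 100000

namespace CfsgLib.Schur.Sporadic.Suz

open Cfsg CfsgLib.SmallGroups CfsgLib.Schur.Tails CfsgLib.Schur.Tails.Mat CfsgLib.Schur.Sporadic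
open CfsgLib.Sporadic.OutCert (lk pkF)
open scoped commutatorElement

/-- The matrix of one of the chosen elements. -/
def cK (i : ℕ) : ℕ := covK.getD i 0

/-- The position of a generator among the chosen elements. -/
def genAt : Spor.Suz.Gen → ℕ
  | .a => 1 | .b => 2 | .c => 3 | .d => 4 | .e => 5 | .f => 6 | .g => 7

/-- All seven generators. -/
def allGens : List Spor.Suz.Gen := [.a, .b, .c, .d, .e, .f, .g]

/-- The letters of a relator. -/
def letters (r : FreeGroup Spor.Suz.Gen) : List ℕ := r.toWord.map fun e => genAt e.1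

/-- The relators as words. -/
def relWords : List (List ℕ) :=
  (allGens.flatMap fun x => allGens.map fun y =>
    letters ((FreeGroup.of x * FreeGroup.of y) ^ Spor.coxLabel Spor.Suz.edges x y)) ++
  Spor.Suz.extra.map letters

theorem slp_ok : slpM 24 5 covTab covW = true ∧ covTab.take 5 = Co1.codes := by decide +kernel

theorem pick_ok : pickM 24 covTab covIds covK = true ∧ covK.length = 12 := by decide +kernel

theorem cube_ok : mmul 24 (cK 0) (mmul 24 (cK 0) (cK 0)) = oneM 24 ∧ cK 0 ≠ oneM 24 ∧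
    mapp 24 (cK 0) 1 ≠ 1 ∧
    ∀ i < 12, i ≠ 11 → mmul 24 (cK i) (cK 0) = mmul 24 (cK 0) (cK i) := by decide +kernel

theorem sq_ok : ∀ i < 7, mmul 24 (cK (i + 1)) (cK (i + 1)) ∈ [oneM 24, cK 0, mmul 24 (cK 0) (cK 0)] := by
  decide +kernel

theorem rel_ok : ∀ w ∈ relWords, prodM 24 covK w ∈ [oneM 24, cK 0, mmul 24 (cK 0) (cK 0)] := by decide +kernel

theorem ins_ok : slpM 24 8 insTab insW = true ∧ insTab.take 8 = covK.take 8 ∧
    insIds.map (fun i => insTab.getD i (oneM 24)) = [cK 8, cK 9, cK 10] := by decide +kernel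

theorem one_ne : mapp 24 (cK 1) 1 ≠ mapp 24 (oneM 24) 1 ∧ mapp 24 (cK 1) 1 ≠ mapp 24 (cK 0) 1 ∧
    mapp 24 (cK 1) 1 ≠ mapp 24 (mmul 24 (cK 0) (cK 0)) 1 := by decide +kernel

theorem comm_ok : mmul 24 (cK 8) (cK 9) = mmul 24 (cK 0) (mmul 24 (cK 9) (cK 8)) := by decide +kernel

theorem conj_ok : mmul 24 (cK 11) (prodM 24 Co1.codes Co1.minusW) = mmul 24 (cK 10) (cK 11) := by decide +kernel

attribute [local irreducible] mapp mmul lk pkF covK covTab

/-- The chosen elements of the quotient. -/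
theorem exists_el : ∀ i, ∃ q : Spor.Co1, RepM 24 (covK.getD i (oneM 24)) (Co1.psi q) :=
  exists_pick Co1.psi (exists_slp Co1.psi (Co1.base_mem slp_ok.2) slp_ok.1) pick_ok.1

/-- A chosen element. -/
noncomputable def el (i : ℕ) : Spor.Co1 := (exists_el i).choose

theorem rep_el' (i : ℕ) : RepM 24 (covK.getD i (oneM 24)) (Co1.psi (el i)) := (exists_el i).choose_spec

theorem rep_el {i : ℕ} (hi : i < 12) : RepM 24 (cK i) (Co1.psi (el i)) := by
  have h := rep_el' i
  have hl : i < covK.length := by rw [pick_ok.2]; exact hi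
  rwa [List.getD_eq_getElem _ _ hl, ← List.getD_eq_getElem _ 0 hl] at h

/-- Equal matrices give equal elements. -/
theorem eq_of_rep {q r : Spor.Co1} {c : ℕ} (h1 : RepM 24 c (Co1.psi q)) (h2 : RepM 24 c (Co1.psi r)) : q = r :=
  Co1.psi_injective (h1.inj h2)

theorem ne_of_rep {q r : Spor.Co1} {c d : ℕ} (h1 : RepM 24 c (Co1.psi q)) (h2 : RepM 24 d (Co1.psi r))
    (h : mapp 24 c 1 ≠ mapp 24 d 1) : q ≠ r := by
  rintro rfl
  exact h ((h1 ⟨1, by norm_num⟩).trans (h2 ⟨1, by norm_num⟩).symm)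

theorem rep_one : RepM 24 (oneM 24) (Co1.psi 1) := by rw [map_one]; exact rep_oneM

theorem rep_mul {q r : Spor.Co1} {c d : ℕ} (h1 : RepM 24 c (Co1.psi q)) (h2 : RepM 24 d (Co1.psi r)) :
    RepM 24 (mmul 24 c d) (Co1.psi (q * r)) := by rw [map_mul]; exact rep_mmul h1 h2

/-- The element of order three. -/
noncomputable def xb : Spor.Co1 := el 0

theorem xb_cube : xb * (xb * xb) = 1 :=
  eq_of_rep (rep_mul (rep_el (by norm_num)) (rep_mul (rep_el (by norm_num)) (rep_el (by norm_num))))
    (by rw [cube_ok.1]; exact rep_one)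

theorem xb_ne : xb ≠ 1 :=
  ne_of_rep (rep_el (by norm_num)) rep_one (by rw [mapp_oneM (by norm_num)]; exact cube_ok.2.2.1)

theorem commute_el {i : ℕ} (hi : i < 12) (h11 : i ≠ 11) : el i * xb = xb * el i :=
  eq_of_rep (rep_mul (rep_el hi) (rep_el (by norm_num)))
    (by rw [cube_ok.2.2.2 i hi h11]; exact rep_mul (rep_el (by norm_num)) (rep_el hi))

theorem mem_zpowers_of_code {q : Spor.Co1} {c : ℕ} (hq : RepM 24 c (Co1.psi q))
    (h : c ∈ [oneM 24, cK 0, mmul 24 (cK 0) (cK 0)]) : q ∈ Subgroup.zpowers xb := by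
  simp only [List.mem_cons, List.not_mem_nil, or_false] at h
  rcases h with rfl | rfl | rfl
  · rw [eq_of_rep hq rep_one]; exact one_mem _
  · rw [eq_of_rep hq (rep_el (by norm_num))]; exact Subgroup.mem_zpowers _
  · rw [eq_of_rep hq (rep_mul (rep_el (by norm_num)) (rep_el (by norm_num)))]
    exact mul_mem (Subgroup.mem_zpowers _) (Subgroup.mem_zpowers _)

/-- The centraliser side. -/
noncomputable def KK : Subgroup Spor.Co1 :=
  Subgroup.closure (insert xb (el '' {i | (1 ≤ i ∧ i ≤ 7)}))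

theorem el_mem {i : ℕ} (h1 : 1 ≤ i) (h2 : i ≤ 7) : el i ∈ KK :=
  Subgroup.subset_closure (Set.mem_insert_of_mem _ ⟨i, ⟨h1, h2⟩, rfl⟩)

theorem xb_mem : xb ∈ KK := Subgroup.subset_closure (Set.mem_insert _ _)

theorem xb_central {k : Spor.Co1} (hk : k ∈ KK) : k * xb = xb * k := by
  have hle : KK ≤ Subgroup.centralizer {xb} := (Subgroup.closure_le _).2 fun y hy => by
    rw [SetLike.mem_coe, Subgroup.mem_centralizer_singleton_iff]
    rcases hy with rfl | ⟨i, hi, rfl⟩
    · rfl
    · exact commute_el (by have := hi.2; omega) (by have := hi.2; omega)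
  exact Subgroup.mem_centralizer_singleton_iff.1 (hle hk)

/-- The central subgroup of order three. -/
noncomputable def ZK : Subgroup KK := (Subgroup.zpowers xb).subgroupOf KK

theorem ZK_central : ZK ≤ Subgroup.center KK := fun z hz => Subgroup.mem_center_iff.2 fun k => by
  obtain ⟨j, hj⟩ := Subgroup.mem_zpowers_iff.1 (Subgroup.mem_subgroupOf.1 hz)
  have hk := (Commute.zpow_right (show Commute (k : Spor.Co1) xb from xb_central k.2) j).eq
  exact Subtype.ext (by rw [Subgroup.coe_mul, Subgroup.coe_mul, ← hj]; exact hk)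

instance ZK_normal : ZK.Normal := ⟨fun z hz g => by
  rwa [Subgroup.mem_center_iff.1 (ZK_central hz) g, mul_inv_cancel_right]⟩

/-- The image of a generator. -/
noncomputable def genImg (s : Spor.Suz.Gen) : KK ⧸ ZK :=
  QuotientGroup.mk ⟨el (genAt s), el_mem (by cases s <;> simp [genAt]) (by cases s <;> simp [genAt])⟩

theorem lift_letters (r : FreeGroup Spor.Suz.Gen) : ∃ k : KK,
    FreeGroup.lift genImg r = (QuotientGroup.mk k : KK ⧸ ZK) ∧
      (k : Spor.Co1) = ((letters r).map el).prod := by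
  have hinv : ∀ s, (genImg s)⁻¹ = genImg s := by
    intro s
    rw [inv_eq_iff_mul_eq_one, genImg, ← QuotientGroup.mk_mul, QuotientGroup.eq_one_iff]
    refine Subgroup.mem_subgroupOf.2 (mem_zpowers_of_code
      (rep_mul (rep_el (i := genAt s) (by cases s <;> simp [genAt])) (rep_el (by cases s <;> simp [genAt]))) ?_)
    cases s
    exacts [sq_ok 0 (by norm_num), sq_ok 1 (by norm_num), sq_ok 2 (by norm_num), sq_ok 3 (by norm_num),
      sq_ok 4 (by norm_num), sq_ok 5 (by norm_num), sq_ok 6 (by norm_num)]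
  rw [letters]
  conv in FreeGroup.lift genImg r => rw [← FreeGroup.mk_toWord (x := r), FreeGroup.lift_mk]
  induction r.toWord with
  | nil => exact ⟨1, by simp, by simp⟩
  | cons e l ih =>
    obtain ⟨k, hk, hk'⟩ := ih
    refine ⟨⟨el (genAt e.1), el_mem (by cases e.1 <;> simp [genAt]) (by cases e.1 <;> simp [genAt])⟩ * k, ?_, ?_⟩
    · rw [List.map_cons, List.prod_cons, hk, QuotientGroup.mk_mul]
      congr 1
      obtain ⟨s, b⟩ := e
      cases b
      · exact hinv s
      · rfl
    · simp [hk']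

theorem rels_one : ∀ r ∈ Spor.coxRelators Spor.Suz.edges ∪ {r | r ∈ Spor.Suz.extra},
    FreeGroup.lift genImg r = 1 := by
  intro r hr
  have hw : letters r ∈ relWords := by
    rcases hr with ⟨x, -, y, -, rfl⟩ | hr
    · exact List.mem_append_left _ (List.mem_flatMap.2 ⟨x, by cases x <;> simp [allGens],
        List.mem_map.2 ⟨y, by cases y <;> simp [allGens], rfl⟩⟩)
    · exact List.mem_append_right _ (List.mem_map.2 ⟨r, hr, rfl⟩)
  obtain ⟨k, hk, hk'⟩ := lift_letters r
  rw [hk, QuotientGroup.eq_one_iff]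
  refine Subgroup.mem_subgroupOf.2 (mem_zpowers_of_code ?_ (rel_ok _ hw))
  rw [hk']
  exact rep_prodM Co1.psi rep_el' (letters r)

instance finite_Co0 : Finite Co0 := Nat.finite_of_card_ne_zero (by rw [LeechOrder.card_Co0]; norm_num)

/-- The map of the presented group. -/
noncomputable def toQ : Spor.Suz →* KK ⧸ ZK := PresentedGroup.toGroup rels_one

theorem toQ_injective : Function.Injective toQ := by
  haveI := CfsgLib.Sporadic.CosetCert.SuzP.isSimple
  rw [← MonoidHom.ker_eq_bot_iff]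
  refine (toQ.normal_ker).eq_bot_or_eq_top.resolve_right fun h => ?_
  have h1 : genImg .a = 1 := by
    have : PresentedGroup.of Spor.Suz.Gen.a ∈ toQ.ker := h ▸ Subgroup.mem_top _
    rw [MonoidHom.mem_ker, toQ, PresentedGroup.toGroup.of] at this
    exact this
  rw [genImg, QuotientGroup.eq_one_iff, ZK, Subgroup.mem_subgroupOf] at h1
  change el 1 ∈ Subgroup.zpowers xb at h1
  obtain ⟨j, hj⟩ := Subgroup.mem_zpowers_iff.1 h1
  have hx3 : xb ^ (3 : ℤ) = 1 := by
    rw [show ((3 : ℤ)) = ((3 : ℕ) : ℤ) from rfl, zpow_natCast, pow_succ, pow_succ, pow_one, mul_assoc]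
    exact xb_cube
  have hj3 : xb ^ j = xb ^ (j % 3) := by
    conv_lhs => rw [← Int.emod_add_mul_ediv j 3, zpow_add, zpow_mul, hx3, one_zpow, mul_one]
  rw [hj3] at hj
  rcases (by omega : j % 3 = 0 ∨ j % 3 = 1 ∨ j % 3 = 2) with e | e | e <;> rw [e] at hj
  · rw [zpow_zero] at hj
    exact ne_of_rep (rep_el (by norm_num)) rep_one one_ne.1 hj.symm
  · rw [zpow_one] at hj
    exact ne_of_rep (rep_el (by norm_num)) (rep_el (by norm_num)) one_ne.2.1 hj.symm
  · rw [show (2 : ℤ) = 1 + 1 from rfl, zpow_add, zpow_one] at hj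
    exact ne_of_rep (rep_el (by norm_num)) (rep_mul (rep_el (by norm_num)) (rep_el (by norm_num)))
      one_ne.2.2 hj.symm

theorem toQ_surjective : Function.Surjective toQ := by
  intro q
  induction q using QuotientGroup.induction_on with
  | H k =>
    obtain ⟨k, hk⟩ := k
    induction hk using Subgroup.closure_induction with
    | mem y hy =>
      rcases hy with rfl | ⟨i, hi, rfl⟩
      · refine ⟨1, ?_⟩
        rw [map_one]
        exact ((QuotientGroup.eq_one_iff (N := ZK) _).2 (Subgroup.mem_subgroupOf.2 (Subgroup.mem_zpowers xb))).symm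
      · have hi' : i = 1 ∨ i = 2 ∨ i = 3 ∨ i = 4 ∨ i = 5 ∨ i = 6 ∨ i = 7 := by
          have := hi.1; have := hi.2; omega
        rcases hi' with rfl | rfl | rfl | rfl | rfl | rfl | rfl
        exacts [⟨_, PresentedGroup.toGroup.of rels_one (x := Spor.Suz.Gen.a)⟩,
          ⟨_, PresentedGroup.toGroup.of rels_one (x := Spor.Suz.Gen.b)⟩,
          ⟨_, PresentedGroup.toGroup.of rels_one (x := Spor.Suz.Gen.c)⟩,
          ⟨_, PresentedGroup.toGroup.of rels_one (x := Spor.Suz.Gen.d)⟩,
          ⟨_, PresentedGroup.toGroup.of rels_one (x := Spor.Suz.Gen.e)⟩,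
          ⟨_, PresentedGroup.toGroup.of rels_one (x := Spor.Suz.Gen.f)⟩,
          ⟨_, PresentedGroup.toGroup.of rels_one (x := Spor.Suz.Gen.g)⟩]
    | one => exact ⟨1, map_one _⟩
    | mul a b ha hb iha ihb =>
      obtain ⟨u, hu⟩ := iha
      obtain ⟨v, hv⟩ := ihb
      exact ⟨u * v, by rw [map_mul, hu, hv]; rfl⟩
    | inv a ha iha =>
      obtain ⟨u, hu⟩ := iha
      exact ⟨u⁻¹, by rw [map_inv, hu]; rfl⟩

/-- The quotient of the centraliser side is the Suzuki group. -/
noncomputable def quotEquiv : KK ⧸ ZK ≃* Spor.Suz :=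
  (MulEquiv.ofBijective toQ ⟨toQ_injective, toQ_surjective⟩).symm

/-- The cover: all automorphisms over the centraliser side. -/
noncomputable def GG : Subgroup Co0 := KK.comap (QuotientGroup.mk' (Subgroup.center Co0))

/-- Its projection. -/
noncomputable def toKK : GG →* KK :=
  ((QuotientGroup.mk' (Subgroup.center Co0)).comp GG.subtype).codRestrict KK fun g => g.2

/-- The covering map. -/
noncomputable def sig : GG →* Spor.Suz :=
  quotEquiv.toMonoidHom.comp ((QuotientGroup.mk' ZK).comp toKK)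

theorem toKK_surjective : Function.Surjective toKK := by
  intro k
  obtain ⟨g, hg⟩ := QuotientGroup.mk'_surjective (Subgroup.center Co0) k.1
  exact ⟨⟨g, by show _ ∈ KK; rw [hg]; exact k.2⟩, Subtype.ext hg⟩

theorem sig_surjective : Function.Surjective sig :=
  quotEquiv.surjective.comp ((QuotientGroup.mk'_surjective ZK).comp toKK_surjective)

theorem mem_ker {g : GG} : g ∈ sig.ker ↔ ((g : Co0) : Spor.Co1) ∈ Subgroup.zpowers xb := by
  rw [MonoidHom.mem_ker, sig, MonoidHom.comp_apply, MonoidHom.comp_apply]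
  rw [show quotEquiv.toMonoidHom ((QuotientGroup.mk' ZK) (toKK g)) = quotEquiv (QuotientGroup.mk' ZK (toKK g))
    from rfl, EmbeddingLike.map_eq_one_iff, QuotientGroup.mk'_apply, QuotientGroup.eq_one_iff, ZK,
    Subgroup.mem_subgroupOf]
  rfl

theorem lift_mem {q : Spor.Co1} (hq : q ∈ KK) : ∃ g : GG, ((g : Co0) : Spor.Co1) = q := by
  obtain ⟨g, hg⟩ := toKK_surjective ⟨q, hq⟩
  exact ⟨g, congrArg Subtype.val hg⟩

theorem kernel_pow (c : Co0) (hc : (c : Spor.Co1) ∈ Subgroup.zpowers xb) :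
    c ^ 3 ∈ Subgroup.center Co0 := by
  obtain ⟨j, hj⟩ := Subgroup.mem_zpowers_iff.1 hc
  rw [← QuotientGroup.eq_one_iff, QuotientGroup.mk_pow, ← hj, ← zpow_natCast, ← zpow_mul, mul_comm, zpow_mul,
    zpow_natCast, pow_succ, pow_succ, pow_one, mul_assoc, xb_cube, one_zpow]

theorem ker_central : sig.ker ≤ Subgroup.center GG := by
  intro c hc
  rw [mem_ker] at hc
  rw [Subgroup.mem_center_iff]
  intro g
  apply Subtype.ext
  show (g : Co0) * c = c * g
  have hbar : ((g : Co0) : Spor.Co1) * ((c : Co0) : Spor.Co1) = ((c : Co0) : Spor.Co1) * ((g : Co0) : Spor.Co1) := by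
    obtain ⟨j, hj⟩ := Subgroup.mem_zpowers_iff.1 hc
    rw [← hj]
    exact (Commute.zpow_right (show Commute _ xb from xb_central g.2) j).eq
  have he : ((g : Co0) * c * (g : Co0)⁻¹) * (c : Co0)⁻¹ ∈ Subgroup.center Co0 := by
    rw [← QuotientGroup.eq_one_iff, QuotientGroup.mk_mul, QuotientGroup.mk_mul, QuotientGroup.mk_mul,
      QuotientGroup.mk_inv, QuotientGroup.mk_inv, hbar, mul_inv_cancel_right, mul_inv_cancel]
  set e := ((g : Co0) * c * (g : Co0)⁻¹) * (c : Co0)⁻¹ with hedef
  have h1 : (g : Co0) * c * (g : Co0)⁻¹ = e * c := by rw [hedef]; group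
  have hz := Subgroup.mem_center_iff.1 (kernel_pow c hc) g
  have h3 : (e * (c : Co0)) ^ 3 = (c : Co0) ^ 3 := by
    rw [← h1, conj_pow, hz, mul_inv_cancel_right]
  rw [(show Commute e (c : Co0) from (Subgroup.mem_center_iff.1 he c).symm).mul_pow, mul_eq_right] at h3
  have h2 : e ^ 2 = 1 := by
    have h : e ^ Nat.card (Subgroup.center Co0) = 1 := by
      have := pow_card_eq_one' (x := (⟨e, he⟩ : Subgroup.center Co0))
      exact congrArg Subtype.val this
    rwa [LeechCenter.card_center_Co0] at h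
  rw [pow_succ, h2, one_mul] at h3
  rw [h3, one_mul, mul_inv_eq_iff_eq_mul] at h1
  exact h1

theorem card_ker : Nat.card sig.ker = 6 := by
  let φ : sig.ker →* Subgroup.zpowers xb :=
    ((QuotientGroup.mk' (Subgroup.center Co0)).comp (GG.subtype.comp sig.ker.subtype)).codRestrict _
      fun c => mem_ker.1 c.2
  have hφ : Function.Surjective φ := by
    rintro ⟨q, hq⟩
    obtain ⟨g, hg⟩ := lift_mem (Subgroup.zpowers_le.2 xb_mem hq)
    exact ⟨⟨g, mem_ker.2 (hg ▸ hq)⟩, Subtype.ext hg⟩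
  have hx : orderOf xb = 3 := orderOf_eq_prime (by rw [pow_succ, pow_succ, pow_one, mul_assoc, xb_cube]) xb_ne
  have hker : Nat.card φ.ker = 2 := by
    refine (Nat.card_congr (Equiv.ofBijective (β := Subgroup.center Co0)
      (fun c => ⟨((c.1.1 : GG) : Co0), (QuotientGroup.eq_one_iff _).1 (congrArg Subtype.val c.2)⟩)
      ⟨fun a b h => ?_, fun z => ?_⟩)).trans LeechCenter.card_center_Co0
    · exact Subtype.ext (Subtype.ext (Subtype.ext (congrArg Subtype.val h :)))
    · have hz : ((z : Co0) : Spor.Co1) = 1 := (QuotientGroup.eq_one_iff _).2 z.2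
      have hzK : (z : Co0) ∈ GG := by
        show _ ∈ KK
        rw [show (QuotientGroup.mk' (Subgroup.center Co0)) (z : Co0) = 1 from hz]
        exact one_mem _
      exact ⟨⟨⟨⟨z, hzK⟩, mem_ker.2 (by rw [hz]; exact one_mem _)⟩, Subtype.ext hz⟩, Subtype.ext rfl⟩
  rw [← φ.ker.card_mul_index, hker, Subgroup.index_ker, MonoidHom.range_eq_top.2 hφ, Subgroup.card_top,
    Nat.card_zpowers, hx]

theorem rep_word (l : List ℕ) (hl : ∀ k ∈ l, k < 5) :
    RepM 24 (prodM 24 Co1.codes l) (Co1.psi ((Co1.wordG l : Co0) : Spor.Co1)) := by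
  induction l with
  | nil => simpa [Co1.wordG, prodM] using rep_one
  | cons k l ih =>
    have hk : RepM 24 (Co1.codes.getD k (oneM 24)) (Co1.psi ((Co1.aGen k : Co0) : Spor.Co1)) := by
      have := hl k List.mem_cons_self
      interval_cases k
      exacts [Co1.rep_a0, Co1.rep_a1, Co1.rep_a2, Co1.rep_a3, Co1.rep_a4]
    rw [show Co1.wordG (k :: l) = Co1.aGen k * Co1.wordG l by simp [Co1.wordG], QuotientGroup.mk_mul]
    exact rep_mul hk (ih fun j hj => hl j (List.mem_cons_of_mem _ hj))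

theorem inside : el 8 ∈ KK ∧ el 9 ∈ KK ∧ el 10 ∈ KK := by
  have hb : ∀ i < 8, ∃ q : KK, RepM 24 (insTab.getD i (oneM 24)) (Co1.psi.comp KK.subtype q) := by
    intro i hi
    have h0 : insTab.getD i (oneM 24) = cK i := by
      have e : insTab.getD i (oneM 24) = (insTab.take 8).getD i (oneM 24) := by
        simp [List.getD_eq_getElem?_getD, hi]
      rw [e, ins_ok.2.1]
      have hl : i < covK.length := by rw [pick_ok.2]; omega
      rw [cK, List.getD_eq_getElem _ _ (by simp; omega), List.getD_eq_getElem _ _ hl, List.getElem_take]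
    rw [h0]
    rcases Nat.eq_zero_or_pos i with rfl | hi0
    · exact ⟨⟨xb, xb_mem⟩, rep_el (by norm_num)⟩
    · exact ⟨⟨el i, el_mem hi0 (by omega)⟩, rep_el (by omega)⟩
  have hs := exists_slp _ hb ins_ok.1
  have key : ∀ j < 3, el (8 + j) ∈ KK := by
    intro j hj
    obtain ⟨q, hq⟩ := hs (insIds.getD j 0)
    have hlen : insIds.length = 3 := by simpa using congrArg List.length ins_ok.2.2
    have h2 : insTab.getD (insIds.getD j 0) (oneM 24) = cK (8 + j) := by
      have e := congrArg (fun l => l.getD j 0) ins_ok.2.2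
      rw [List.getD_eq_getElem (l := insIds.map _) _ (by simpa [hlen] using hj), List.getElem_map] at e
      rw [List.getD_eq_getElem (l := insIds) _ (by omega), e]
      interval_cases j <;> rfl
    rw [h2] at hq
    rw [eq_of_rep (rep_el (show 8 + j < 12 by omega)) hq]
    exact q.2
  exact ⟨key 0 (by norm_num), key 1 (by norm_num), key 2 (by norm_num)⟩

theorem perfect_sup : commutator GG ⊔ sig.ker = ⊤ := by
  haveI := CfsgLib.Sporadic.CosetCert.SuzP.isSimple
  have hmap : (commutator GG).map sig = ⊤ := by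
    rw [map_commutator_eq, MonoidHom.range_eq_top.2 sig_surjective, ← commutator_def]
    refine ((commutator Spor.Suz).normal_of_characteristic.eq_bot_or_eq_top).resolve_left fun h => ?_
    have hcomm : ∀ a b : Spor.Suz, a * b = b * a := fun a b => commutatorElement_eq_one_iff_mul_comm.1
      (Subgroup.mem_bot.1 (h ▸ Subgroup.commutator_mem_commutator (Subgroup.mem_top a) (Subgroup.mem_top b)))
    letI : CommGroup Spor.Suz := { (inferInstance : Group Spor.Suz) with mul_comm := hcomm }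
    haveI := CfsgLib.Sporadic.CosetCert.SuzP.finite
    have := IsSimpleGroup.prime_card (α := Spor.Suz)
    rw [CfsgLib.Sporadic.CosetCert.SuzP.card_eq.1] at this
    norm_num at this
  rw [← Subgroup.comap_map_eq, hmap, Subgroup.comap_top]

theorem minus_mem : ∀ g : GG, ((g : Co0) : Equiv.Perm leechLattice) = LeechCenter.negLat → g ∈ commutator GG := by
  intro g hg
  have hwq : ((Co1.wordG Co1.minusW : Co0) : Spor.Co1) = (el 11)⁻¹ * el 10 * el 11 := by
    rw [mul_assoc, eq_inv_mul_iff_mul_eq]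
    exact eq_of_rep (rep_mul (rep_el (by norm_num)) (rep_word _ (by decide)))
      (by rw [conj_ok]; exact rep_mul (rep_el (by norm_num)) (rep_el (by norm_num)))
  obtain ⟨u, hu⟩ := QuotientGroup.mk'_surjective (Subgroup.center Co0) (el 11)
  obtain ⟨t, ht⟩ := lift_mem inside.2.2
  set w := Co1.wordG Co1.minusW
  have hneg : ((w * w : Co0) : Equiv.Perm leechLattice) = LeechCenter.negLat := Co1.minusW_sq
  have hcen : ∀ z ∈ Subgroup.center Co0, z ^ 2 = 1 := fun z hz => by
    have h : z ^ Nat.card (Subgroup.center Co0) = 1 := by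
      have := pow_card_eq_one' (x := (⟨z, hz⟩ : Subgroup.center Co0))
      exact congrArg Subtype.val this
    rwa [LeechCenter.card_center_Co0] at h
  have hgc : (g : Co0) ∈ Subgroup.center Co0 := Subgroup.mem_center_iff.2 fun h => Subtype.ext (Equiv.ext fun v => by
    rw [Subgroup.coe_mul, Subgroup.coe_mul, hg]
    exact (CfsgLib.ThreeTransp.LeechModule.actHom h).map_neg v)
  have hgw : (g : Co0) = w * w := Subtype.ext (hg.trans hneg.symm)
  have hd : (t : Co0)⁻¹ * (u * w * u⁻¹) ∈ Subgroup.center Co0 := by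
    rw [← QuotientGroup.eq_one_iff, QuotientGroup.mk_mul, QuotientGroup.mk_inv, QuotientGroup.mk_mul,
      QuotientGroup.mk_mul, QuotientGroup.mk_inv, hwq, ht, show ((u : Co0) : Spor.Co1) = el 11 from hu]
    group
  have ht2 : (t : Co0) ^ 2 = (g : Co0) := by
    have h1 : u * w * u⁻¹ = (t : Co0) * ((t : Co0)⁻¹ * (u * w * u⁻¹)) := by group
    have h2 : (u * w * u⁻¹) ^ 2 = (t : Co0) ^ 2 := by
      rw [h1, (show Commute (t : Co0) _ from Subgroup.mem_center_iff.1 hd t).mul_pow, hcen _ hd, mul_one]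
    rw [← h2, conj_pow, pow_two, ← hgw, Subgroup.mem_center_iff.1 hgc u, mul_inv_cancel_right]
  have hmem : t ∈ ((commutator GG ⊔ sig.ker : Subgroup GG) : Set GG) := by rw [perfect_sup]; trivial
  rw [Subgroup.mul_normal] at hmem
  obtain ⟨c, hc, z, hz, e⟩ := Set.mem_mul.1 hmem
  have htt : t ^ 2 = g := Subtype.ext ht2
  have hzc : Commute c z := (Subgroup.mem_center_iff.1 (ker_central hz) c)
  have hz6 : z ^ 6 = 1 := by
    have := congrArg Subtype.val (pow_card_eq_one' (x := (⟨z, hz⟩ : sig.ker)))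
    rw [card_ker] at this
    exact this
  have hg2 : g ^ 2 = 1 := Subtype.ext (by rw [SubmonoidClass.coe_pow]; exact hcen _ hgc)
  have : g = c ^ 6 := by
    calc g = g ^ 3 := by rw [pow_succ, hg2, one_mul]
      _ = (t ^ 2) ^ 3 := by rw [htt]
      _ = t ^ 6 := by rw [← pow_mul]
      _ = c ^ 6 := by rw [← e, hzc.mul_pow, hz6, mul_one]
  exact this ▸ pow_mem hc 6

theorem ker_le_commutator : sig.ker ≤ commutator GG := by
  obtain ⟨a, ha⟩ := lift_mem inside.1
  obtain ⟨b, hb⟩ := lift_mem inside.2.1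
  have hx : ((⁅a, b⁆ : GG) : Co0) = ⁅(a : Co0), (b : Co0)⁆ := map_commutatorElement GG.subtype a b
  have hab : (((⁅a, b⁆ : GG) : Co0) : Spor.Co1) = xb := by
    rw [hx, ← QuotientGroup.mk'_apply, map_commutatorElement, QuotientGroup.mk'_apply, QuotientGroup.mk'_apply,
      ha, hb, commutatorElement_def, mul_inv_eq_iff_eq_mul, mul_inv_eq_iff_eq_mul, mul_assoc]
    exact eq_of_rep (rep_mul (rep_el (by norm_num)) (rep_el (by norm_num)))
      (by rw [comm_ok]; exact rep_mul (rep_el (by norm_num)) (rep_mul (rep_el (by norm_num)) (rep_el (by norm_num))))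
  have hcomm : ⁅a, b⁆ ∈ commutator GG :=
    Subgroup.commutator_mem_commutator (Subgroup.mem_top a) (Subgroup.mem_top b)
  intro c hc
  obtain ⟨j, hj⟩ := Subgroup.mem_zpowers_iff.1 (mem_ker.1 hc)
  set d := (⁅a, b⁆ ^ j)⁻¹ * c with hd
  have hdz : (d : Co0) ∈ Subgroup.center Co0 := by
    rw [← QuotientGroup.eq_one_iff, hd, Subgroup.coe_mul, Subgroup.coe_inv, QuotientGroup.mk_mul,
      QuotientGroup.mk_inv, SubgroupClass.coe_zpow, QuotientGroup.mk_zpow, hab, ← hj, inv_mul_cancel]
  have hdm : d ∈ commutator GG := by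
    rcases LeechCenter.central_cases hdz with h | h
    · rw [show d = 1 from Subtype.ext (Subtype.ext h)]; exact one_mem _
    · exact minus_mem d h
  have hcd : c = ⁅a, b⁆ ^ j * d := by rw [hd, mul_inv_cancel_left]
  rw [hcd]
  exact mul_mem (zpow_mem hcomm j) hdm

theorem isStem : IsStemExtension sig := ⟨sig_surjective, ker_central, ker_le_commutator⟩

theorem isCyclic_ker : IsCyclic sig.ker := by
  obtain ⟨a, ha⟩ := exists_prime_orderOf_dvd_card' (G := sig.ker) (hp := ⟨Nat.prime_two⟩) 2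
    (by rw [card_ker]; norm_num)
  obtain ⟨b, hb⟩ := exists_prime_orderOf_dvd_card' (G := sig.ker) (hp := ⟨Nat.prime_three⟩) 3
    (by rw [card_ker]; norm_num)
  have hab : Commute a b := Subtype.ext (Subgroup.mem_center_iff.1 (ker_central b.2) a.1)
  refine isCyclic_of_orderOf_eq_card (a * b) ?_
  rw [hab.orderOf_mul_eq_mul_orderOf_of_coprime (by rw [ha, hb]; norm_num), ha, hb, card_ker]

end CfsgLib.Schur.Sporadic.Suz
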